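import Groth.Agent.MiscTwoH99.SplitPlace.Embed
import Mathlib.NumberTheory.RamificationInertia.Galois
import Mathlib.NumberTheory.NumberField.Basic
import Mathlib.FieldTheory.Finite.GaloisField
import Mathlib.FieldTheory.Finite.Extension
import Mathlib.RingTheory.Invariant.Basic
import Mathlib.RingTheory.Ideal.Quotient.Index
import Mathlib.NumberTheory.NumberField.Ideal.Basic

/-!
# Decomposition groups and places of degree one
-/

set_option autoImplicit false
set_option linter.style.haveILetI false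

universe u

open NumberField IsDedekindDomain Pointwise

namespace Groth.Agent.MiscTwoH99.SplitPlace

variable {K N : Type u} [Field K] [NumberField K] [Field N] [NumberField N] [Algebra K N]

theorem finite_quotient (w : HeightOneSpectrum (𝓞 K)) : Finite (𝓞 K ⧸ w.asIdeal) :=
  Ideal.finiteQuotientOfFreeOfNeBot _ w.ne_bot

theorem perfectField_residueField (w : HeightOneSpectrum (𝓞 K)) : PerfectField w.asIdeal.ResidueField := by
  haveI := finite_quotient w
  haveI : Finite w.asIdeal.ResidueField :=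
    Finite.of_surjective _ w.asIdeal.bijective_algebraMap_quotient_residueField.2
  exact PerfectField.ofFinite

variable [IsGalois K N] (w : HeightOneSpectrum (𝓞 K)) (Q : Ideal (𝓞 N)) [Q.IsPrime] [Q.LiesOver w.asIdeal]

/-- A field fixed by the decomposition group has a place of degree one. -/
theorem nonempty_algHom_of_fixed (π : 𝓞 K) (hπ : π ∈ w.asIdeal) (hπ2 : algebraMap (𝓞 K) (𝓞 N) π ∉ Q ^ 2)
    {F : Type u} [Field F] [NumberField F] [Algebra K F] (ψ : F →ₐ[K] N)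
    (hfix : ∀ σ ∈ MulAction.stabilizer (N ≃ₐ[K] N) Q, ∀ x, σ (ψ x) = ψ x) :
    Nonempty (F →ₐ[K] w.adicCompletion K) := by
  let ψO : 𝓞 F →+* 𝓞 N := RingOfIntegers.mapRingHom ψ.toRingHom
  have hψO : ∀ r : 𝓞 K, ψO (algebraMap (𝓞 K) (𝓞 F) r) = algebraMap (𝓞 K) (𝓞 N) r := fun r =>
    RingOfIntegers.ext (ψ.commutes (r : K))
  let P₀ := Q.comap ψO
  haveI : P₀.IsPrime := Ideal.IsPrime.comap _
  have hover : P₀.LiesOver w.asIdeal := ⟨by
    ext r
    rw [Ideal.mem_of_liesOver Q w.asIdeal r, Ideal.under_def, Ideal.mem_comap, Ideal.mem_comap, hψO]⟩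
  have hP0 : P₀ ≠ ⊥ := Ideal.ne_bot_of_liesOver_of_ne_bot w.ne_bot P₀
  let P : HeightOneSpectrum (𝓞 F) := ⟨P₀, inferInstance, hP0⟩
  refine nonempty_algHom_adicCompletion w P hover π hπ ?_ ?_
  · intro h
    apply hπ2
    rw [← hψO]
    exact Ideal.pow_right_mono Ideal.map_comap_le 2 (Ideal.map_pow ψO P₀ 2 ▸ Ideal.mem_map_of_mem ψO h)
  · intro z
    haveI := finite_quotient w
    haveI := w.isMaximal
    haveI : Q.IsMaximal := Ideal.IsMaximal.of_liesOver_isMaximal Q w.asIdeal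
    letI := Ideal.Quotient.field w.asIdeal
    letI := Ideal.Quotient.field Q
    haveI : Finite (𝓞 N ⧸ Q) :=
      Ideal.finiteQuotientOfFreeOfNeBot _ (Ideal.ne_bot_of_liesOver_of_ne_bot w.ne_bot Q)
    haveI : Module.Finite (𝓞 K ⧸ w.asIdeal) (𝓞 N ⧸ Q) := Module.Finite.of_finite
    haveI : IsGalois (𝓞 K ⧸ w.asIdeal) (𝓞 N ⧸ Q) := inferInstance
    have hmem : Ideal.Quotient.mk Q (ψO z) ∈ Set.range (algebraMap (𝓞 K ⧸ w.asIdeal) (𝓞 N ⧸ Q)) := by
      refine (IsGalois.mem_range_algebraMap_iff_fixed _).2 fun f => ?_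
      obtain ⟨σ, rfl⟩ := Ideal.Quotient.stabilizerHom_surjective (N ≃ₐ[K] N) w.asIdeal Q f
      have hσ : (σ : N ≃ₐ[K] N) • ψO z = ψO z := RingOfIntegers.ext (hfix σ σ.2 (z : F))
      exact congrArg (Ideal.Quotient.mk Q) hσ
    obtain ⟨c, hc⟩ := hmem
    obtain ⟨c, rfl⟩ := Ideal.Quotient.mk_surjective c
    refine ⟨c, show ψO (z - algebraMap (𝓞 K) (𝓞 F) c) ∈ Q from ?_⟩
    rw [map_sub, hψO]
    exact Ideal.Quotient.eq.1 hc.symm

omit [IsGalois K N] in
theorem inertia_fixes {L : Type u} [Field L] [NumberField L] [Algebra K L] [IsGalois K N] (φ : L →ₐ[K] N)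
    (hram : ∀ P : Ideal (𝓞 L), P.IsPrime → P.LiesOver w.asIdeal → P.ramificationIdx (𝓞 K) = 1)
    (σ : N ≃ₐ[K] N) (hσ : σ ∈ Q.inertia (N ≃ₐ[K] N)) (x : L) : σ (φ x) = φ x := by
  letI : Algebra L N := φ.toRingHom.toAlgebra
  haveI : IsScalarTower K L N := IsScalarTower.of_algebraMap_eq fun r => (φ.commutes r).symm
  haveI : IsGalois L N := IsGalois.tower_top_of_isGalois K L N
  let P := Q.under (𝓞 L)
  haveI : IsScalarTower (𝓞 K) (𝓞 L) (𝓞 N) := IsScalarTower.of_algebraMap_eq fun r =>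
    RingOfIntegers.ext (φ.commutes (r : K)).symm
  haveI : P.LiesOver w.asIdeal := ⟨by rw [Ideal.under_under, ← Q.over_def w.asIdeal]⟩
  have hP0 : P ≠ ⊥ := Ideal.ne_bot_of_liesOver_of_ne_bot w.ne_bot P
  haveI := perfectField_residueField w
  haveI := perfectField_residueField (⟨P, inferInstance, hP0⟩ : HeightOneSpectrum (𝓞 L))
  have h1 := Ideal.card_inertia_eq_ramificationIdxIn (G := N ≃ₐ[K] N) w.asIdeal Q
  have h2 := Ideal.card_inertia_eq_ramificationIdxIn (G := N ≃ₐ[L] N) P Q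
  rw [Ideal.ramificationIdxIn_eq_ramificationIdx w.asIdeal Q (N ≃ₐ[K] N),
    Ideal.ramificationIdx_tower P Q, hram P inferInstance inferInstance, one_mul,
    ← Ideal.ramificationIdxIn_eq_ramificationIdx P Q (N ≃ₐ[L] N), ← h2] at h1
  let r : Q.inertia (N ≃ₐ[L] N) → Q.inertia (N ≃ₐ[K] N) := fun τ => ⟨τ.1.restrictScalars K, τ.2⟩
  have hr : Function.Injective r := fun τ τ' h => Subtype.ext (AlgEquiv.ext fun y =>
    AlgEquiv.congr_fun (congrArg Subtype.val h) y)
  obtain ⟨τ, hτ⟩ := ((Nat.bijective_iff_injective_and_card r).2 ⟨hr, h1.symm⟩).2 ⟨σ, hσ⟩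
  have : σ = τ.1.restrictScalars K := congrArg Subtype.val hτ.symm
  rw [this]
  exact τ.1.commutes x

theorem exists_uniformizer_of_inertia_eq_bot (h : Q.inertia (N ≃ₐ[K] N) = ⊥) :
    ∃ π ∈ w.asIdeal, algebraMap (𝓞 K) (𝓞 N) π ∉ Q ^ 2 := by
  haveI := perfectField_residueField w
  have hcard := Ideal.card_inertia_eq_ramificationIdxIn (G := N ≃ₐ[K] N) w.asIdeal Q
  rw [h, Subgroup.card_bot, Ideal.ramificationIdxIn_eq_ramificationIdx w.asIdeal Q (N ≃ₐ[K] N)] at hcard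
  have hmap : w.asIdeal.map (algebraMap (𝓞 K) (𝓞 N)) ≠ ⊥ := Ideal.map_ne_bot_of_ne_bot w.ne_bot
  rw [Ideal.IsDedekindDomain.ramificationIdx_eq_multiplicity w.asIdeal Q hmap] at hcard
  by_contra hcon
  push Not at hcon
  have hle : w.asIdeal.map (algebraMap (𝓞 K) (𝓞 N)) ≤ Q ^ 2 :=
    Ideal.map_le_iff_le_comap.2 hcon
  have hfm : FiniteMultiplicity Q (w.asIdeal.map (algebraMap (𝓞 K) (𝓞 N))) := by
    refine FiniteMultiplicity.of_not_isUnit ?_ hmap
    rw [Ideal.isUnit_iff]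
    exact Ideal.IsPrime.ne_top'
  have := hfm.le_multiplicity_of_pow_dvd (Ideal.dvd_iff_le.2 hle)
  omega

end Groth.Agent.MiscTwoH99.SplitPlace
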