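import Mathlib.RingTheory.DedekindDomain.AdicValuation
import Mathlib.RingTheory.Algebraic.Integral
import Mathlib.Topology.Algebra.UniformRing

/-!
# A place of degree one gives an embedding into the completion
-/

set_option autoImplicit false
set_option linter.style.haveILetI false

universe u

open IsDedekindDomain HeightOneSpectrum WithZero

namespace Groth.Agent.MiscTwoH99.SplitPlace

variable {R S K F : Type u} [CommRing R] [IsDedekindDomain R] [Field K] [Algebra R K] [IsFractionRing R K]
  [CommRing S] [IsDedekindDomain S] [Field F] [Algebra S F] [IsFractionRing S F] [Algebra K F]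
  [Algebra R S] [Algebra R F] [IsScalarTower R S F] [IsScalarTower R K F]
  (w : HeightOneSpectrum R) (P : HeightOneSpectrum S)

theorem intValuation_algebraMap_eq (hover : P.asIdeal.LiesOver w.asIdeal)
    (π : R) (hπ : π ∈ w.asIdeal) (hπ2 : algebraMap R S π ∉ P.asIdeal ^ 2) (c : R) :
    P.intValuation (algebraMap R S c) = w.intValuation c := by
  have hmem : ∀ y, algebraMap R S y ∈ P.asIdeal ↔ y ∈ w.asIdeal := fun y => (Ideal.mem_of_liesOver P.asIdeal w.asIdeal y).symm
  have hne : ∀ {y : R}, algebraMap R S y ≠ 0 → y ≠ 0 := fun h h0 => h (h0 ▸ map_zero _)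
  have hle : ∀ (y : R) (n : ℕ), y ∈ w.asIdeal ^ n → P.intValuation (algebraMap R S y) ≤ exp (-(n : ℤ)) := by
    intro y n hy
    rw [intValuation_le_pow_iff_mem]
    have h1 : Ideal.map (algebraMap R S) (w.asIdeal ^ n) ≤ P.asIdeal ^ n := by
      rw [Ideal.map_pow]
      exact Ideal.pow_right_mono (Ideal.map_le_iff_le_comap.2 fun z hz => (hmem z).2 hz) n
    exact h1 (Ideal.mem_map_of_mem _ hy)
  have key : ∀ {y : R} {T : Type u} [CommRing T] [IsDedekindDomain T] (Q : HeightOneSpectrum T) (z : T),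
      z ∈ Q.asIdeal → z ∉ Q.asIdeal ^ 2 → Q.intValuation z = exp (-1 : ℤ) := by
    intro y T _ _ Q z hz hz2
    refine le_antisymm ?_ ?_
    · exact (intValuation_le_pow_iff_mem Q z 1).2 (by simpa using hz)
    · by_contra hlt
      rw [not_le] at hlt
      refine hz2 ((intValuation_le_pow_iff_mem Q z 2).1 ?_)
      by_cases h0 : Q.intValuation z = 0
      · simp [h0]
      · obtain ⟨e, he⟩ : ∃ e, Q.intValuation z = exp e := ⟨log (Q.intValuation z), (exp_log h0).symm⟩
        rw [he, exp_lt_exp] at hlt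
        rw [he, exp_le_exp]
        omega
  have hπw : π ∉ w.asIdeal ^ 2 := fun h => hπ2 ((intValuation_le_pow_iff_mem P _ 2).1 (hle π 2 h))
  have v1 : w.intValuation π = exp (-1 : ℤ) := key (y := π) w π hπ hπw
  have v2 : P.intValuation (algebraMap R S π) = exp (-1 : ℤ) := key (y := π) P _ ((hmem π).2 hπ) hπ2
  rcases eq_or_ne c 0 with rfl | hc
  · simp
  obtain ⟨n, hn⟩ : ∃ n : ℕ, w.intValuation c = exp (-(n : ℤ)) :=
    ⟨_, intValuation_eq_exp_neg_multiplicity w hc⟩
  have vn : w.intValuation (π ^ n) = exp (-(n : ℤ)) := by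
    rw [map_pow, v1, ← exp_nsmul]; simp
  obtain ⟨γ, hγ⟩ : ∃ γ : Multiplicative ℤ, (γ : ℤᵐ⁰) = exp (-(n : ℤ)) := ⟨_, rfl⟩
  obtain ⟨y, hy⟩ := exists_intValuation_mul_sub_lt w (a := π ^ n) (b := c) (by rw [hn, vn]) γ
  rw [hγ] at hy
  have hyc : w.intValuation (y * π ^ n) = exp (-(n : ℤ)) := by
    rw [show y * π ^ n = c + -(c - y * π ^ n) by ring, Valuation.map_add_eq_of_lt_left, hn]
    rwa [Valuation.map_neg, hn]
  have hy1 : w.intValuation y = 1 := by
    rw [map_mul, vn] at hyc
    exact (mul_eq_right₀ exp_ne_zero).1 hyc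
  have hy2 : P.intValuation (algebraMap R S y) = 1 := by
    rw [intValuation_eq_one_iff] at hy1 ⊢
    rwa [hmem]
  have hz : P.intValuation (algebraMap R S (c - y * π ^ n)) ≤ exp (-((n + 1 : ℕ) : ℤ)) := by
    refine hle _ _ ((intValuation_le_pow_iff_mem w _ _).1 ?_)
    by_cases h0 : w.intValuation (c - y * π ^ n) = 0
    · simp [h0]
    · obtain ⟨e, he⟩ : ∃ e, w.intValuation (c - y * π ^ n) = exp e := ⟨log _, (exp_log h0).symm⟩
      rw [he, exp_lt_exp] at hy
      rw [he, exp_le_exp]
      omega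
  have hyP : P.intValuation (algebraMap R S (y * π ^ n)) = exp (-(n : ℤ)) := by
    rw [map_mul, map_pow, map_mul, map_pow, hy2, v2, one_mul, ← exp_nsmul]; simp
  rw [hn, show c = y * π ^ n + (c - y * π ^ n) by ring, map_add, Valuation.map_add_eq_of_lt_left, hyP]
  rw [hyP]
  exact hz.trans_lt (exp_lt_exp.2 (by omega))

theorem valuation_algebraMap_eq (hover : P.asIdeal.LiesOver w.asIdeal)
    (π : R) (hπ : π ∈ w.asIdeal) (hπ2 : algebraMap R S π ∉ P.asIdeal ^ 2) (x : K) :
    P.valuation F (algebraMap K F x) = w.valuation K x := by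
  obtain ⟨a, b, hb, rfl⟩ := IsFractionRing.div_surjective (A := R) x
  simp only [map_div₀, ← IsScalarTower.algebraMap_apply R K F, IsScalarTower.algebraMap_apply R S F,
    valuation_of_algebraMap, intValuation_algebraMap_eq w P hover π hπ hπ2]

theorem exists_approx (hover : P.asIdeal.LiesOver w.asIdeal)
    (π : R) (hπ : π ∈ w.asIdeal) (hπ2 : algebraMap R S π ∉ P.asIdeal ^ 2)
    (hres : ∀ z : S, ∃ c : R, z - algebraMap R S c ∈ P.asIdeal) (a : S) :
    ∀ n : ℕ, ∃ c : R, P.intValuation (a - algebraMap R S c) ≤ exp (-(n : ℤ)) := by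
  intro n
  induction n with
  | zero => exact ⟨0, by simpa using P.intValuation_le_one _⟩
  | succ n ih =>
    obtain ⟨c, hc⟩ := ih
    have v2 : P.intValuation (algebraMap R S π) = exp (-1 : ℤ) := by
      refine le_antisymm ((intValuation_le_pow_iff_mem P _ 1).2 (by
        simpa using (Ideal.mem_of_liesOver P.asIdeal w.asIdeal π).1 hπ)) ?_
      by_contra hlt
      rw [not_le] at hlt
      refine hπ2 ((intValuation_le_pow_iff_mem P _ 2).1 ?_)
      by_cases h0 : P.intValuation (algebraMap R S π) = 0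
      · simp [h0]
      · obtain ⟨e, he⟩ : ∃ e, P.intValuation (algebraMap R S π) = exp e := ⟨log _, (exp_log h0).symm⟩
        rw [he, exp_lt_exp] at hlt
        rw [he, exp_le_exp]
        omega
    have vn : P.intValuation (algebraMap R S π ^ n) = exp (-(n : ℤ)) := by
      rw [map_pow, v2, ← exp_nsmul]; simp
    obtain ⟨γ, hγ⟩ : ∃ γ : Multiplicative ℤ, (γ : ℤᵐ⁰) = exp (-(n : ℤ)) := ⟨_, rfl⟩
    obtain ⟨y, hy⟩ := exists_intValuation_mul_sub_lt P (a := algebraMap R S π ^ n) (b := a - algebraMap R S c)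
      (by rw [vn]; exact hc) γ
    rw [hγ] at hy
    obtain ⟨c', hc'⟩ := hres y
    refine ⟨c + c' * π ^ n, ?_⟩
    rw [show a - algebraMap R S (c + c' * π ^ n) =
      (a - algebraMap R S c - y * algebraMap R S π ^ n) + (y - algebraMap R S c') * algebraMap R S π ^ n by
        rw [map_add, map_mul, map_pow]; ring]
    refine (P.intValuation.map_add _ _).trans (max_le ?_ ?_)
    · by_cases h0 : P.intValuation (a - algebraMap R S c - y * algebraMap R S π ^ n) = 0
      · simp [h0]
      · obtain ⟨e, he⟩ : ∃ e, P.intValuation (a - algebraMap R S c - y * algebraMap R S π ^ n) = exp e :=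
          ⟨log _, (exp_log h0).symm⟩
        rw [he, exp_lt_exp] at hy
        rw [he, exp_le_exp]
        omega
    · rw [map_mul, vn, show exp (-((n + 1 : ℕ) : ℤ)) = exp (-1 : ℤ) * exp (-(n : ℤ)) by rw [← exp_add]; congr 1; omega]
      exact mul_le_mul_left (by simpa using (intValuation_le_pow_iff_mem P _ 1).2 (by simpa using hc')) _

theorem exists_close [Algebra.IsIntegral R S] (hover : P.asIdeal.LiesOver w.asIdeal)
    (π : R) (hπ : π ∈ w.asIdeal) (hπ2 : algebraMap R S π ∉ P.asIdeal ^ 2)
    (hres : ∀ z : S, ∃ c : R, z - algebraMap R S c ∈ P.asIdeal) (x : F) (g : ℤᵐ⁰) (hg : g ≠ 0) :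
    ∃ c : K, P.valuation F (x - algebraMap K F c) < g := by
  obtain ⟨a, s, hs, rfl⟩ := IsFractionRing.div_surjective (A := S) x
  obtain ⟨b, hb, t, ht⟩ := IsAlgebraic.exists_nonzero_dvd (R := R)
    ((Algebra.IsIntegral.isIntegral (R := R) s).isAlgebraic) hs
  have hs0 : algebraMap S F s ≠ 0 := IsFractionRing.to_map_ne_zero_of_mem_nonZeroDivisors hs
  have hbF : algebraMap R F b ≠ 0 := by
    rw [IsScalarTower.algebraMap_apply R K F]
    exact (map_ne_zero _).2 ((map_ne_zero_iff _ (IsFractionRing.injective R K)).2 hb)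
  have hb0 : P.valuation F (algebraMap R F b) ≠ 0 := (Valuation.ne_zero_iff _).2 hbF
  obtain ⟨n, hn⟩ : ∃ n : ℕ, exp (-(n : ℤ)) < g * P.valuation F (algebraMap R F b) := by
    refine ⟨(-log (g * P.valuation F (algebraMap R F b)) + 1).toNat, ?_⟩
    conv_rhs => rw [← exp_log (mul_ne_zero hg hb0)]
    rw [exp_lt_exp]
    omega
  obtain ⟨c, hc⟩ := exists_approx w P hover π hπ hπ2 hres (a * t) n
  refine ⟨algebraMap R K c / algebraMap R K b, ?_⟩
  have e : algebraMap S F a / algebraMap S F s - algebraMap K F (algebraMap R K c / algebraMap R K b) =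
      algebraMap S F (a * t - algebraMap R S c) / algebraMap R F b := by
    rw [map_div₀, ← IsScalarTower.algebraMap_apply R K F, ← IsScalarTower.algebraMap_apply R K F,
      map_sub, map_mul, ← IsScalarTower.algebraMap_apply R S F]
    have hst : algebraMap R F b = algebraMap S F s * algebraMap S F t := by
      rw [← map_mul, IsScalarTower.algebraMap_apply R S F, ht]
    rw [div_sub_div _ _ hs0 hbF, div_eq_div_iff (mul_ne_zero hs0 hbF) hbF, hst]
    ring
  rw [e, map_div₀, valuation_of_algebraMap, div_lt_iff₀ (zero_lt_iff.2 hb0)]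
  exact hc.trans_lt hn

/-- If `P` has degree one over `w`, the field of `P` embeds into the completion at `w`. -/
theorem nonempty_algHom_adicCompletion [Algebra.IsIntegral R S] (hover : P.asIdeal.LiesOver w.asIdeal)
    (π : R) (hπ : π ∈ w.asIdeal) (hπ2 : algebraMap R S π ∉ P.asIdeal ^ 2)
    (hres : ∀ z : S, ∃ c : R, z - algebraMap R S c ∈ P.asIdeal) :
    Nonempty (F →ₐ[K] w.adicCompletion K) := by
  let i : WithVal (w.valuation K) →+* WithVal (P.valuation F) :=
    WithVal.map (w.valuation K) (P.valuation F) (algebraMap K F)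
  have hv : ∀ x, Valued.v (i x) = Valued.v x := fun x =>
    valuation_algebraMap_eq w P hover π hπ hπ2 x.ofVal
  have hb := Valued.hasBasis_uniformity (WithVal (w.valuation K)) ℤᵐ⁰
  have hb' := Valued.hasBasis_uniformity (WithVal (P.valuation F)) ℤᵐ⁰
  have ui : IsUniformInducing i := by
    rw [hb.isUniformInducing_iff hb']
    refine ⟨fun γ' _ => ?_, fun γ _ => ?_⟩
    · have hne : (MonoidWithZeroHom.ValueGroup₀.embedding γ'.1 : ℤᵐ⁰) ≠ 0 :=
        (map_ne_zero MonoidWithZeroHom.ValueGroup₀.embedding).2 γ'.ne_zero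
      obtain ⟨x, hx⟩ := valuation_surjective K w (MonoidWithZeroHom.ValueGroup₀.embedding γ'.1 : ℤᵐ⁰)
      have hx' : Valued.v (WithVal.toVal (w.valuation K) x) = MonoidWithZeroHom.ValueGroup₀.embedding γ'.1 :=
        (WithVal.valued_toVal _ x).trans hx
      have hr : Valued.v.restrict (WithVal.toVal (w.valuation K) x) ≠ 0 := fun h0 => by
        have := congrArg MonoidWithZeroHom.ValueGroup₀.embedding h0
        rw [Valuation.embedding_restrict, map_zero, hx'] at this
        exact hne this
      refine ⟨Units.mk0 _ hr, trivial, fun a b hab => ?_⟩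
      simp only [Set.mem_setOf_eq, Units.val_mk0, Valuation.restrict_lt_iff_lt_embedding,
        Valuation.embedding_restrict] at hab ⊢
      rwa [← map_sub, hv, ← hx']
    · have hne : (MonoidWithZeroHom.ValueGroup₀.embedding γ.1 : ℤᵐ⁰) ≠ 0 :=
        (map_ne_zero MonoidWithZeroHom.ValueGroup₀.embedding).2 γ.ne_zero
      obtain ⟨x, hx⟩ := valuation_surjective F P (MonoidWithZeroHom.ValueGroup₀.embedding γ.1 : ℤᵐ⁰)
      have hx' : Valued.v (WithVal.toVal (P.valuation F) x) = MonoidWithZeroHom.ValueGroup₀.embedding γ.1 :=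
        (WithVal.valued_toVal _ x).trans hx
      have hr : Valued.v.restrict (WithVal.toVal (P.valuation F) x) ≠ 0 := fun h0 => by
        have := congrArg MonoidWithZeroHom.ValueGroup₀.embedding h0
        rw [Valuation.embedding_restrict, map_zero, hx'] at this
        exact hne this
      refine ⟨Units.mk0 _ hr, trivial, fun a b hab => ?_⟩
      simp only [Set.mem_setOf_eq, Units.val_mk0, Valuation.restrict_lt_iff_lt_embedding,
        Valuation.embedding_restrict] at hab ⊢
      rwa [← map_sub, hv, hx'] at hab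
  have dr : DenseRange i := by
    intro y
    rw [mem_closure_iff_nhds]
    intro U hU
    obtain ⟨γ, hγ⟩ := (Valued.mem_nhds).1 hU
    have hne : (MonoidWithZeroHom.ValueGroup₀.embedding γ.1 : ℤᵐ⁰) ≠ 0 :=
      (map_ne_zero MonoidWithZeroHom.ValueGroup₀.embedding).2 γ.ne_zero
    obtain ⟨c, hc⟩ := exists_close (K := K) w P hover π hπ hπ2 hres y.ofVal _ hne
    refine ⟨i (WithVal.toVal (w.valuation K) c), hγ ?_, ⟨_, rfl⟩⟩
    rw [Set.mem_setOf_eq, Valuation.restrict_lt_iff_lt_embedding, Valuation.map_sub_swap]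
    exact hc
  let f := (UniformSpace.Completion.coeRingHom : WithVal (w.valuation K) →+* (w.valuation K).Completion)
  have hf : UniformContinuous f := UniformSpace.Completion.uniformContinuous_coe _
  let ψ := IsDenseInducing.extendRingHom ui dr hf
  let φ : F →+* w.adicCompletion K :=
    ((adicCompletion.equiv K w).symm.toRingHom.comp ψ).comp (WithVal.equiv (P.valuation F)).symm.toRingHom
  refine ⟨{ φ with commutes' := fun r => ?_ }⟩
  apply adicCompletion.ext
  refine ((ui.isDenseInducing dr).extend_eq hf.continuous (WithVal.toVal (w.valuation K) r)).trans ?_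
  rfl

end Groth.Agent.MiscTwoH99.SplitPlace
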